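import Mathlib

/-!
The Sylow normalisers for the five large primes of a group with the order and small centralisers of
the fourth Janko group.
-/

set_option autoImplicit false
set_option maxRecDepth 20000
set_option linter.style.haveILetI false
set_option synthInstance.maxSize 1024
set_option synthInstance.maxHeartbeats 400000

namespace H47.J4Large

open Subgroup

/-- the order -/
def NN : ℕ := 86775571046077562880

/-- the large primes -/
def bigs : List ℕ := [23, 29, 31, 37, 43]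

theorem NN_eq : NN = 2 ^ 21 * 3 ^ 3 * 5 * 7 * (11 ^ 3 * 23 * 29 * 31 * 37 * 43) := by norm_num [NN]

theorem big_prime {p : ℕ} (hp : p ∈ bigs) : p.Prime := by
  simp only [bigs, List.mem_cons, List.not_mem_nil, or_false] at hp
  rcases hp with rfl | rfl | rfl | rfl | rfl <;> norm_num

theorem big_dvd {p : ℕ} (hp : p ∈ bigs) : p ∣ NN ∧ ¬ p ^ 2 ∣ NN := by
  simp only [bigs, List.mem_cons, List.not_mem_nil, or_false] at hp
  rcases hp with rfl | rfl | rfl | rfl | rfl <;> norm_num [NN]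

/-- the hypotheses -/
structure Input (G : Type*) [Group G] : Prop where
  card : Nat.card G = NN
  small : ∀ q, q = 2 ∨ q = 3 ∨ q = 5 ∨ q = 7 → ∀ p ∈ bigs, ∀ x y : G, orderOf x = q → orderOf y = p →
    ¬ Commute x y
  norm23 : ∃ u g : G, orderOf u = 23 ∧ g * u * g⁻¹ = u ^ 2
  inv31 : ∃ u s : G, orderOf u = 31 ∧ s * u * s⁻¹ = u⁻¹
  apart : ∀ a b, a = 23 ∨ a = 31 → b = 29 ∨ b = 43 →
    ∃ u v : G, orderOf u = a ∧ orderOf v = b ∧ ∀ h : G, ¬ Commute u (h * v * h⁻¹)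

theorem fac_one {n p : ℕ} (hp : p.Prime) (hn : n ≠ 0) (h1 : p ∣ n) (h2 : ¬ p ^ 2 ∣ n) :
    n.factorization p = 1 := by
  have a := (hp.pow_dvd_iff_le_factorization hn (k := 1)).1 (by simpa using h1)
  have b : ¬ 2 ≤ n.factorization p := fun h => h2 ((hp.pow_dvd_iff_le_factorization hn).2 h)
  omega

theorem exists_bit {q c : ℕ} (hq : q.Prime) (h : c ∣ q) : ∃ b : Fin 2, c = q ^ b.val := by
  rcases (Nat.dvd_prime hq).1 h with rfl | rfl
  · exact ⟨0, by simp⟩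
  · exact ⟨1, by simp⟩

theorem split {c : ℕ} (h : c ∣ 11 ^ 3 * 23 * 29 * 31 * 37 * 43) : ∃ k : Fin 4, ∃ b₁ b₂ b₃ b₄ b₅ : Fin 2,
    c = 11 ^ k.val * 23 ^ b₁.val * 29 ^ b₂.val * 31 ^ b₃.val * 37 ^ b₄.val * 43 ^ b₅.val := by
  obtain ⟨c5, d5, h5, k5, rfl⟩ := Nat.dvd_mul.1 h
  obtain ⟨c4, d4, h4, k4, rfl⟩ := Nat.dvd_mul.1 h5
  obtain ⟨c3, d3, h3, k3, rfl⟩ := Nat.dvd_mul.1 h4
  obtain ⟨c2, d2, h2, k2, rfl⟩ := Nat.dvd_mul.1 h3
  obtain ⟨c1, d1, h1, k1, rfl⟩ := Nat.dvd_mul.1 h2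
  obtain ⟨k, hk, rfl⟩ := (Nat.dvd_prime_pow (by norm_num : Nat.Prime 11)).1 h1
  obtain ⟨b₁, rfl⟩ := exists_bit (by norm_num) k1
  obtain ⟨b₂, rfl⟩ := exists_bit (by norm_num) k2
  obtain ⟨b₃, rfl⟩ := exists_bit (by norm_num) k3
  obtain ⟨b₄, rfl⟩ := exists_bit (by norm_num) k4
  obtain ⟨b₅, rfl⟩ := exists_bit (by norm_num) k5
  exact ⟨⟨k, by omega⟩, b₁, b₂, b₃, b₄, b₅, rfl⟩

/-- the product of the prime powers -/
def val (k : Fin 4) (b₁ b₂ b₃ b₄ b₅ : Fin 2) : ℕ :=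
  11 ^ k.val * 23 ^ b₁.val * 29 ^ b₂.val * 31 ^ b₃.val * 37 ^ b₄.val * 43 ^ b₅.val

theorem key23 : ∀ (k : Fin 4) (b₁ b₂ b₃ b₄ b₅ : Fin 2) (e : Fin 23), 23 ∣ val k b₁ b₂ b₃ b₄ b₅ →
    ¬ 29 ∣ val k b₁ b₂ b₃ b₄ b₅ → ¬ 43 ∣ val k b₁ b₂ b₃ b₄ b₅ → 11 ∣ e.val → e.val ∣ 22 →
    val k b₁ b₂ b₃ b₄ b₅ * e.val ∣ NN → NN / (val k b₁ b₂ b₃ b₄ b₅ * e.val) % 23 = 1 →
    (val k b₁ b₂ b₃ b₄ b₅ = 23 ∧ e.val = 22) ∨ val k b₁ b₂ b₃ b₄ b₅ = 86273 := by
  decide +kernel

theorem key31 : ∀ (k : Fin 4) (b₁ b₂ b₃ b₄ b₅ : Fin 2) (e : Fin 31), 31 ∣ val k b₁ b₂ b₃ b₄ b₅ →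
    ¬ 29 ∣ val k b₁ b₂ b₃ b₄ b₅ → ¬ 43 ∣ val k b₁ b₂ b₃ b₄ b₅ → 2 ∣ e.val → e.val ∣ 30 →
    val k b₁ b₂ b₃ b₄ b₅ * e.val ∣ NN → NN / (val k b₁ b₂ b₃ b₄ b₅ * e.val) % 31 = 1 →
    (val k b₁ b₂ b₃ b₄ b₅ = 31 ∧ e.val = 10) ∨ val k b₁ b₂ b₃ b₄ b₅ = 7843 := by
  decide +kernel

theorem key43 : ∀ (k : Fin 4) (b₁ b₂ b₃ b₄ b₅ : Fin 2) (e : Fin 43), 43 ∣ val k b₁ b₂ b₃ b₄ b₅ →
    ¬ 23 ∣ val k b₁ b₂ b₃ b₄ b₅ → ¬ 31 ∣ val k b₁ b₂ b₃ b₄ b₅ → e.val ∣ 42 →
    val k b₁ b₂ b₃ b₄ b₅ * e.val ∣ NN → NN / (val k b₁ b₂ b₃ b₄ b₅ * e.val) % 43 = 1 →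
    (val k b₁ b₂ b₃ b₄ b₅ = 43 ∧ e.val = 14) ∨ (val k b₁ b₂ b₃ b₄ b₅ = 1247 ∧ e.val = 42) := by
  decide +kernel

theorem key37 : ∀ (k : Fin 4) (b₁ b₂ b₃ b₄ b₅ : Fin 2) (e : Fin 37), 37 ∣ val k b₁ b₂ b₃ b₄ b₅ →
    ¬ 23 ∣ val k b₁ b₂ b₃ b₄ b₅ → ¬ 31 ∣ val k b₁ b₂ b₃ b₄ b₅ → ¬ 43 ∣ val k b₁ b₂ b₃ b₄ b₅ →
    e.val ∣ 36 → val k b₁ b₂ b₃ b₄ b₅ * e.val ∣ NN →
    NN / (val k b₁ b₂ b₃ b₄ b₅ * e.val) % 37 = 1 → val k b₁ b₂ b₃ b₄ b₅ = 37 ∧ e.val = 12 := by
  decide +kernel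

theorem key29 : ∀ (k : Fin 4) (b₁ b₂ b₃ b₄ b₅ : Fin 2) (e : Fin 29), 29 ∣ val k b₁ b₂ b₃ b₄ b₅ →
    ¬ 23 ∣ val k b₁ b₂ b₃ b₄ b₅ → ¬ 31 ∣ val k b₁ b₂ b₃ b₄ b₅ → ¬ 37 ∣ val k b₁ b₂ b₃ b₄ b₅ →
    e.val ∣ 28 → val k b₁ b₂ b₃ b₄ b₅ * e.val ∣ NN →
    NN / (val k b₁ b₂ b₃ b₄ b₅ * e.val) % 29 = 1 →
    (val k b₁ b₂ b₃ b₄ b₅ = 29 ∧ e.val = 28) ∨ (val k b₁ b₂ b₃ b₄ b₅ = 1247 ∧ e.val = 2) := by
  decide +kernel

variable {G : Type*} [Group G] [Finite G]

/-- the centraliser of an element -/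
abbrev cz (x : G) : Subgroup G := centralizer ({x} : Set G)

/-- the normaliser of the subgroup of an element -/
abbrev nz (x : G) : Subgroup G := normalizer (zpowers x : Set G)

omit [Finite G] in
theorem cz_zpowers (x : G) : centralizer (zpowers x : Set G) = cz x := by
  rw [zpowers_eq_closure, centralizer_closure]

omit [Finite G] in
theorem mem_cz {x y : G} : y ∈ cz x ↔ Commute x y :=
  mem_centralizer_singleton_iff.trans ⟨Eq.symm, Eq.symm⟩

theorem mem_norm {H : Subgroup G} {g : G} (h : ∀ z ∈ H, g * z * g⁻¹ ∈ H) : g ∈ normalizer (H : Set G) := by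
  have e : H.map (MulAut.conj g).toMonoidHom = H := by
    refine eq_of_le_of_card_ge ?_ (by rw [card_map_of_injective (MulAut.conj g).injective])
    rintro _ ⟨z, hz, rfl⟩
    exact h z hz
  rw [mem_normalizer_iff]
  refine fun z => ⟨h z, fun hz => ?_⟩
  rw [← e] at hz
  obtain ⟨w, hw, hwz⟩ := hz
  rwa [(MulAut.conj g).injective hwz] at hw

omit [Finite G] in
theorem cz_le_nz (x : G) : cz x ≤ nz x := by
  rw [← cz_zpowers]; exact centralizer_le_normalizer _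

variable (I : Input G)
include I

theorem fac {p : ℕ} (hp : p ∈ bigs) : (Nat.card G).factorization p = 1 := by
  rw [I.card]
  exact fac_one (big_prime hp) (by norm_num [NN]) (big_dvd hp).1 (big_dvd hp).2

theorem exists_elem {p : ℕ} (hp : p ∈ bigs) : ∃ x : G, orderOf x = p := by
  haveI := Fact.mk (big_prime hp)
  exact exists_prime_orderOf_dvd_card' p (I.card ▸ (big_dvd hp).1)

theorem zpowers_conj {p : ℕ} (hp : p ∈ bigs) {x y : G} (hx : orderOf x = p) (hy : orderOf y = p) :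
    ∃ g : G, (zpowers x).map (MulAut.conj g).toMonoidHom = zpowers y := by
  haveI := Fact.mk (big_prime hp)
  let S : Sylow p G := Sylow.ofCard (zpowers x) (by rw [Nat.card_zpowers, hx, fac I hp, pow_one])
  let T : Sylow p G := Sylow.ofCard (zpowers y) (by rw [Nat.card_zpowers, hy, fac I hp, pow_one])
  obtain ⟨g, hg⟩ := MulAction.exists_smul_eq G S T
  exact ⟨g, congrArg (fun P : Sylow p G => (P : Subgroup G)) hg⟩

theorem card_eq_of_order {p : ℕ} (hp : p ∈ bigs) {x y : G} (hx : orderOf x = p) (hy : orderOf y = p) :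
    Nat.card (cz x) = Nat.card (cz y) ∧ Nat.card (nz x) = Nat.card (nz y) := by
  obtain ⟨g, hg⟩ := zpowers_conj I hp hx hy
  have hc : (cz x).map (MulAut.conj g).toMonoidHom = cz y := by
    rw [← cz_zpowers x, ← cz_zpowers y, ← hg]
    ext z
    simp only [mem_map_equiv, mem_centralizer_iff, SetLike.mem_coe, MulAut.conj_symm_apply]
    constructor
    · intro h w hw
      have := congrArg (fun t => g * t * g⁻¹) (h _ hw)
      simpa [mul_assoc] using this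
    · intro h v hv
      have := congrArg (fun t => g⁻¹ * t * g) (h (g * v * g⁻¹) (by simpa [mul_assoc] using hv))
      simpa [mul_assoc] using this
  refine ⟨?_, ?_⟩
  · rw [← hc, card_map_of_injective (MulAut.conj g).injective]
  · have : (nz x).map (MulAut.conj g).toMonoidHom = nz y := by
      rw [map_equiv_normalizer_eq, hg]
    rw [← this, card_map_of_injective (MulAut.conj g).injective]

theorem not_pair {a b : ℕ} (ha : a = 23 ∨ a = 31) (hb : b = 29 ∨ b = 43) {x y : G} (hx : orderOf x = a)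
    (hy : orderOf y = b) : ¬ Commute x y := by
  intro hc
  obtain ⟨u, v, hu, hv, h⟩ := I.apart a b ha hb
  have hA : a ∈ bigs := by rcases ha with rfl | rfl <;> simp [bigs]
  have hB : b ∈ bigs := by rcases hb with rfl | rfl <;> simp [bigs]
  obtain ⟨g, hg⟩ := zpowers_conj I hA hx hu
  obtain ⟨k, hk⟩ := zpowers_conj I hB hy hv
  have hu' : u ∈ zpowers u := mem_zpowers u
  have hv' : v ∈ zpowers v := mem_zpowers v
  rw [← hg] at hu'
  rw [← hk] at hv'
  obtain ⟨_, ⟨i, rfl⟩, eu⟩ := hu'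
  obtain ⟨_, ⟨j, rfl⟩, ev⟩ := hv'
  simp only [MulEquiv.coe_toMonoidHom, MulAut.conj_apply] at eu ev
  refine h (g * k⁻¹) ?_
  have := ((hc.zpow_left i).zpow_right j).map (MulAut.conj g).toMonoidHom
  simp only [MulEquiv.coe_toMonoidHom, MulAut.conj_apply, eu] at this
  rw [← ev]
  rwa [show g * k⁻¹ * (k * y ^ j * k⁻¹) * (g * k⁻¹)⁻¹ = g * y ^ j * g⁻¹ by group]

theorem exists_commute {x : G} {q : ℕ} (hq : q.Prime) (h : q ∣ Nat.card (cz x)) :
    ∃ y : G, orderOf y = q ∧ Commute x y := by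
  haveI := Fact.mk hq
  obtain ⟨y, hy⟩ := exists_prime_orderOf_dvd_card' q h
  exact ⟨y, by rw [Subgroup.orderOf_coe]; exact hy, mem_cz.1 y.2⟩

theorem cz_dvd_of_commute {x y : G} (h : Commute x y) : orderOf y ∣ Nat.card (cz x) :=
  Nat.card_zpowers y ▸ card_dvd_of_le (zpowers_le.2 (mem_cz.2 h))

theorem symm_dvd {p q : ℕ} (hp : p ∈ bigs) (hq : q ∈ bigs) {x y : G} (hx : orderOf x = p) (hy : orderOf y = q)
    (h : q ∣ Nat.card (cz x)) : p ∣ Nat.card (cz y) := by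
  obtain ⟨w, hw, hc⟩ := exists_commute I (big_prime hq) h
  rw [(card_eq_of_order I hq hy hw).1]
  exact hx ▸ cz_dvd_of_commute I hc.symm

theorem cz_dvd {p : ℕ} (hp : p ∈ bigs) {x : G} (hx : orderOf x = p) :
    Nat.card (cz x) ∣ 11 ^ 3 * 23 * 29 * 31 * 37 * 43 := by
  have hq : ∀ q, q = 2 ∨ q = 3 ∨ q = 5 ∨ q = 7 → Nat.Coprime (Nat.card (cz x)) q := by
    intro q hq
    have hqp : q.Prime := by rcases hq with rfl | rfl | rfl | rfl <;> norm_num
    refine (hqp.coprime_iff_not_dvd.2 fun h => ?_).symm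
    obtain ⟨y, hy, hc⟩ := exists_commute I hqp h
    exact I.small q hq p hp y x hy hx hc.symm
  refine Nat.Coprime.dvd_of_dvd_mul_left (m := 2 ^ 21 * 3 ^ 3 * 5 * 7) ?_
    (NN_eq ▸ I.card ▸ card_subgroup_dvd_card _)
  exact ((((hq 2 (by simp)).pow_right 21).mul_right ((hq 3 (by simp)).pow_right 3)).mul_right
    (hq 5 (by simp))).mul_right (hq 7 (by simp))

theorem opts {p : ℕ} (hp : p ∈ bigs) {x : G} (hx : orderOf x = p) :
    ∃ (k : Fin 4) (b₁ b₂ b₃ b₄ b₅ : Fin 2) (e : Fin p), Nat.card (cz x) = val k b₁ b₂ b₃ b₄ b₅ ∧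
      Nat.card (nz x) = Nat.card (cz x) * e.val ∧ p ∣ Nat.card (cz x) ∧ e.val ∣ p - 1 ∧
      Nat.card (cz x) * e.val ∣ NN ∧ NN / (Nat.card (cz x) * e.val) % p = 1 ∧
      e.val = Nat.card (zpowers x).normalizerMonoidHom.range := by
  haveI := Fact.mk (big_prime hp)
  obtain ⟨k, b₁, b₂, b₃, b₄, b₅, hc⟩ := split (cz_dvd I hp hx)
  set φ := (zpowers x).normalizerMonoidHom
  set e := Nat.card φ.range
  have hcard : Nat.card (zpowers x) = p := by rw [Nat.card_zpowers, hx]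
  have he : e ∣ p - 1 := by
    have := card_subgroup_dvd_card φ.range
    rwa [IsCyclic.card_mulAut, hcard, Nat.totient_prime (big_prime hp)] at this
  have hlt : e < p := lt_of_le_of_lt
    (Nat.le_of_dvd (by have := (big_prime hp).one_lt; omega) he) (by have := (big_prime hp).one_lt; omega)
  have hN : Nat.card (nz x) = Nat.card (cz x) * e := by
    rw [card_eq_card_quotient_mul_card_subgroup φ.ker,
      Nat.card_congr (QuotientGroup.quotientKerEquivRange φ).toEquiv, normalizerMonoidHom_ker, cz_zpowers,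
      Nat.card_congr (subgroupOfEquivOfLe (cz_le_nz x)).toEquiv, mul_comm]
  let S : Sylow p G := Sylow.ofCard (zpowers x) (by rw [hcard, fac I hp, pow_one])
  have hi : (nz x).index % p = 1 := by
    have h := card_sylow_modEq_one p G
    rw [S.card_eq_index_normalizer] at h
    exact Eq.trans h (Nat.mod_eq_of_lt (big_prime hp).one_lt)
  have hd : Nat.card (cz x) * e ∣ NN := hN ▸ I.card ▸ card_subgroup_dvd_card _
  have hq : NN / (Nat.card (cz x) * e) = (nz x).index := by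
    rw [← I.card, ← (nz x).card_mul_index, hN, Nat.mul_div_cancel_left]
    exact hN ▸ Nat.card_pos
  exact ⟨k, b₁, b₂, b₃, b₄, b₅, ⟨e, hlt⟩, hc, hN, hx ▸ cz_dvd_of_commute I (Commute.refl x), he, hd,
    hq ▸ hi, rfl⟩

theorem eleven_dvd : ∃ u : G, orderOf u = 23 ∧ 11 ∣ Nat.card (zpowers u).normalizerMonoidHom.range := by
  obtain ⟨u, g, hu, hg⟩ := I.norm23
  refine ⟨u, hu, ?_⟩
  have hgn : g ∈ nz u := by
    refine mem_norm fun z hz => ?_
    obtain ⟨i, rfl⟩ := hz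
    rw [← conj_zpow, hg]
    exact zpow_mem (pow_mem (mem_zpowers u) 2) i
  have hk : ∀ k : ℕ, g ^ k * u * (g ^ k)⁻¹ = u ^ 2 ^ k := by
    intro k
    induction k with
    | zero => simp
    | succ k ih =>
      rw [show g ^ (k + 1) * u * (g ^ (k + 1))⁻¹ = g ^ k * (g * u * g⁻¹) * (g ^ k)⁻¹ by rw [pow_succ]; group,
        hg, ← conj_pow, ih, ← pow_mul, ← pow_succ]
  set φ := (zpowers u).normalizerMonoidHom
  set a := φ ⟨g, hgn⟩
  have h11 : a ^ 11 = 1 := by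
    rw [← map_pow, ← MonoidHom.mem_ker, normalizerMonoidHom_ker, cz_zpowers, mem_subgroupOf]
    refine mem_cz.2 ?_
    have h := hk 11
    rw [← pow_mod_orderOf u, hu] at h
    norm_num at h
    exact (mul_inv_eq_iff_eq_mul.1 h).symm
  have h1 : a ≠ 1 := by
    intro h
    rw [← MonoidHom.mem_ker, normalizerMonoidHom_ker, cz_zpowers, mem_subgroupOf] at h
    have hc : u * g = g * u := mem_cz.1 h
    rw [← hc, mul_inv_cancel_right, pow_two] at hg
    have := orderOf_dvd_of_pow_eq_one (show u ^ 1 = 1 by rw [pow_one]; exact mul_eq_left.1 hg.symm)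
    rw [hu] at this
    norm_num at this
  haveI : Fact (Nat.Prime 11) := ⟨by norm_num⟩
  rw [← orderOf_eq_prime h11 h1, ← Subgroup.orderOf_mk a (MonoidHom.mem_range.2 ⟨_, rfl⟩ : a ∈ φ.range)]
  exact orderOf_dvd_natCard _

theorem two_dvd : ∃ u : G, orderOf u = 31 ∧ 2 ∣ Nat.card (zpowers u).normalizerMonoidHom.range := by
  obtain ⟨u, g, hu, hg⟩ := I.inv31
  refine ⟨u, hu, ?_⟩
  have hgn : g ∈ nz u := by
    refine mem_norm fun z hz => ?_
    obtain ⟨i, rfl⟩ := hz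
    rw [← conj_zpow, hg]
    exact zpow_mem (inv_mem (mem_zpowers u)) i
  set φ := (zpowers u).normalizerMonoidHom
  set a := φ ⟨g, hgn⟩
  have h2 : a ^ 2 = 1 := by
    rw [← map_pow, ← MonoidHom.mem_ker, normalizerMonoidHom_ker, cz_zpowers, mem_subgroupOf]
    refine mem_cz.2 ?_
    show u * (g ^ 2) = g ^ 2 * u
    calc u * g ^ 2 = (g * u⁻¹ * g⁻¹) * g ^ 2 := by
          rw [show g * u⁻¹ * g⁻¹ = (g * u * g⁻¹)⁻¹ by group, hg, inv_inv]
      _ = g * (g * u * g⁻¹) * g := by rw [hg, pow_two]; group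
      _ = g ^ 2 * u := by rw [pow_two]; group
  have h1 : a ≠ 1 := by
    intro h
    rw [← MonoidHom.mem_ker, normalizerMonoidHom_ker, cz_zpowers, mem_subgroupOf] at h
    have hc : u * g = g * u := mem_cz.1 h
    rw [← hc, mul_inv_cancel_right] at hg
    have := orderOf_dvd_of_pow_eq_one (show u ^ 2 = 1 by rw [pow_two]; nth_rw 2 [hg]; exact mul_inv_cancel u)
    rw [hu] at this
    norm_num at this
  rw [← orderOf_eq_prime h2 h1, ← Subgroup.orderOf_mk a (MonoidHom.mem_range.2 ⟨_, rfl⟩ : a ∈ φ.range)]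
  exact orderOf_dvd_natCard _

theorem case23 {x : G} (hx : orderOf x = 23) :
    (Nat.card (cz x) = 23 ∧ Nat.card (nz x) = 23 * 22) ∨ Nat.card (cz x) = 86273 := by
  obtain ⟨u, hu, h11⟩ := eleven_dvd I
  have hb : 23 ∈ bigs := by simp [bigs]
  rw [(card_eq_of_order I hb hx hu).1, (card_eq_of_order I hb hx hu).2]
  obtain ⟨k, b₁, b₂, b₃, b₄, b₅, e, hc, hn, hp, he, hd, hm, hee⟩ := opts I hb hu
  have no : ∀ b, b = 29 ∨ b = 43 → ¬ b ∣ Nat.card (cz u) := fun b hb h => by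
    obtain ⟨y, hy, hcy⟩ := exists_commute I (by rcases hb with rfl | rfl <;> norm_num) h
    exact not_pair I (Or.inl rfl) hb hu hy hcy
  have h29 := no 29 (Or.inl rfl)
  have h43 := no 43 (Or.inr rfl)
  rw [hc] at hp hd hm h29 h43 hn ⊢
  rcases key23 k b₁ b₂ b₃ b₄ b₅ e hp h29 h43 (hee ▸ h11) he hd hm with ⟨r1, r2⟩ | r
  · exact Or.inl ⟨r1, by rw [hn, r1, r2]⟩
  · exact Or.inr r

theorem case31 {x : G} (hx : orderOf x = 31) :
    (Nat.card (cz x) = 31 ∧ Nat.card (nz x) = 31 * 10) ∨ Nat.card (cz x) = 7843 := by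
  obtain ⟨u, hu, h2⟩ := two_dvd I
  have hb : 31 ∈ bigs := by simp [bigs]
  rw [(card_eq_of_order I hb hx hu).1, (card_eq_of_order I hb hx hu).2]
  obtain ⟨k, b₁, b₂, b₃, b₄, b₅, e, hc, hn, hp, he, hd, hm, hee⟩ := opts I hb hu
  have no : ∀ b, b = 29 ∨ b = 43 → ¬ b ∣ Nat.card (cz u) := fun b hb h => by
    obtain ⟨y, hy, hcy⟩ := exists_commute I (by rcases hb with rfl | rfl <;> norm_num) h
    exact not_pair I (Or.inr rfl) hb hu hy hcy
  have h29 := no 29 (Or.inl rfl)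
  have h43 := no 43 (Or.inr rfl)
  rw [hc] at hp hd hm h29 h43 hn ⊢
  rcases key31 k b₁ b₂ b₃ b₄ b₅ e hp h29 h43 (hee ▸ h2) he hd hm with ⟨r1, r2⟩ | r
  · exact Or.inl ⟨r1, by rw [hn, r1, r2]⟩
  · exact Or.inr r

/-- the possible configuration `23 × 31` does not occur -/
theorem no_both {x y : G} (hx : Nat.card (cz x) = 86273) (hy : orderOf y = 31) (hc : Commute x y) :
    Nat.card (cz x) ∣ Nat.card (cz y) := by
  haveI : Fact (Nat.Prime 31) := ⟨by norm_num⟩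
  let P : Sylow 31 (cz x) := default
  have hP : Nat.card P = 31 := by
    rw [P.card_eq_multiplicity, hx, fac_one (p := 31) (by norm_num) (by norm_num) (by norm_num) (by norm_num),
      pow_one]
  have hidx : (P : Subgroup (cz x)).index = 2783 := by
    have := (P : Subgroup (cz x)).card_mul_index
    rw [show Nat.card (P : Subgroup (cz x)) = 31 from hP, hx] at this
    omega
  have hone : Nat.card (Sylow 31 (cz x)) = 1 := by
    have h1 := P.card_dvd_index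
    rw [hidx] at h1
    have h2 : Nat.card (Sylow 31 (cz x)) % 31 = 1 % 31 := card_sylow_modEq_one 31 (cz x)
    have key : ∀ d ∈ Nat.divisors 2783, d % 31 = 1 % 31 → d = 1 := by decide +kernel
    exact key _ (Nat.mem_divisors.2 ⟨h1, by norm_num⟩) h2
  haveI : Subsingleton (Sylow 31 (cz x)) := (Nat.card_eq_one_iff_unique.1 hone).1
  have hn : (P : Subgroup (cz x)).Normal := P.normal_of_subsingleton
  set Q := (P : Subgroup (cz x)).map (cz x).subtype
  have hQ : Nat.card Q = 31 := by rw [card_map_of_injective (cz x).subtype_injective]; exact hP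
  have hle : cz x ≤ normalizer (Q : Set G) := fun g hg => mem_norm fun z hz => by
    obtain ⟨w, hw, rfl⟩ := hz
    exact ⟨⟨g, hg⟩ * w * (⟨g, hg⟩ : cz x)⁻¹, hn.conj_mem w hw _, rfl⟩
  let ψ := Q.normalizerMonoidHom.comp (inclusion hle)
  haveI : IsCyclic Q := isCyclic_of_prime_card hQ
  have h1 : Nat.card ψ.range ∣ 86273 := hx ▸ card_range_dvd ψ
  have h2 : Nat.card ψ.range ∣ 30 := by
    have := card_subgroup_dvd_card ψ.range
    rwa [IsCyclic.card_mulAut, hQ, Nat.totient_prime (by norm_num)] at this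
  have h3 : Nat.card ψ.range = 1 := Nat.dvd_one.1 ((Nat.dvd_gcd h1 h2).trans (by norm_num))
  have hcQ : cz x ≤ centralizer (Q : Set G) := fun g hg => by
    have : ψ ⟨g, hg⟩ = 1 := by
      rw [← mem_bot, ← eq_bot_of_card_eq _ h3]; exact ⟨_, rfl⟩
    rw [MonoidHom.comp_apply, ← MonoidHom.mem_ker, normalizerMonoidHom_ker, mem_subgroupOf] at this
    exact this
  obtain ⟨z, hz⟩ := exists_prime_orderOf_dvd_card' (G := Q) 31 (hQ ▸ dvd_rfl)
  have hz' : orderOf (z : G) = 31 := by rw [Subgroup.orderOf_coe]; exact hz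
  have hQz : zpowers (z : G) = Q :=
    eq_of_le_of_card_ge (zpowers_le.2 z.2) (by rw [Nat.card_zpowers, hz', hQ])
  rw [← hQz, cz_zpowers] at hcQ
  rw [(card_eq_of_order I (by simp [bigs]) hy hz').1]
  exact card_dvd_of_le hcQ

theorem cz23 {x : G} (hx : orderOf x = 23) : Nat.card (cz x) = 23 ∧ Nat.card (nz x) = 23 * 22 := by
  rcases case23 I hx with h | h
  · exact h
  · exfalso
    obtain ⟨y, hy, hc⟩ := exists_commute I (q := 31) (by norm_num) (h.symm ▸ (by norm_num : 31 ∣ 86273))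
    have hd := no_both I h hy hc
    rw [h] at hd
    rcases case31 I hy with ⟨r, -⟩ | r <;> rw [r] at hd <;> norm_num at hd

theorem cz31 {x : G} (hx : orderOf x = 31) : Nat.card (cz x) = 31 ∧ Nat.card (nz x) = 31 * 10 := by
  rcases case31 I hx with h | h
  · exact h
  · exfalso
    obtain ⟨y, hy, hc⟩ := exists_commute I (q := 23) (by norm_num) (h.symm ▸ (by norm_num : 23 ∣ 7843))
    have hd := hx ▸ cz_dvd_of_commute I hc.symm
    rw [(cz23 I hy).1] at hd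
    norm_num at hd

theorem case43 {x : G} (hx : orderOf x = 43) : (Nat.card (cz x) = 43 ∧ Nat.card (nz x) = 43 * 14) ∨
    (Nat.card (cz x) = 1247 ∧ Nat.card (nz x) = 1247 * 42) := by
  have hb : 43 ∈ bigs := by simp [bigs]
  obtain ⟨k, b₁, b₂, b₃, b₄, b₅, e, hc, hn, hp, he, hd, hm, -⟩ := opts I hb hx
  have no : ∀ a, a = 23 ∨ a = 31 → ¬ a ∣ Nat.card (cz x) := fun a ha h => by
    obtain ⟨y, hy, hcy⟩ := exists_commute I (by rcases ha with rfl | rfl <;> norm_num) h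
    exact not_pair I ha (Or.inr rfl) hy hx hcy.symm
  have h23 := no 23 (Or.inl rfl)
  have h31 := no 31 (Or.inr rfl)
  rw [hc] at hp hd hm h23 h31 hn ⊢
  rcases key43 k b₁ b₂ b₃ b₄ b₅ e hp h23 h31 he hd hm with ⟨r1, r2⟩ | ⟨r1, r2⟩
  · exact Or.inl ⟨r1, by rw [hn, r1, r2]⟩
  · exact Or.inr ⟨r1, by rw [hn, r1, r2]⟩

theorem cz37 {x : G} (hx : orderOf x = 37) : Nat.card (cz x) = 37 ∧ Nat.card (nz x) = 37 * 12 := by
  have hb : 37 ∈ bigs := by simp [bigs]
  have h23 : ¬ 23 ∣ Nat.card (cz x) := fun h => by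
    obtain ⟨y, hy⟩ := exists_elem I (p := 23) (by simp [bigs])
    have := symm_dvd I hb (by simp [bigs]) hx hy h
    rw [(cz23 I hy).1] at this
    norm_num at this
  have h31 : ¬ 31 ∣ Nat.card (cz x) := fun h => by
    obtain ⟨y, hy⟩ := exists_elem I (p := 31) (by simp [bigs])
    have := symm_dvd I hb (by simp [bigs]) hx hy h
    rw [(cz31 I hy).1] at this
    norm_num at this
  have h43 : ¬ 43 ∣ Nat.card (cz x) := fun h => by
    obtain ⟨y, hy⟩ := exists_elem I (p := 43) (by simp [bigs])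
    have := symm_dvd I hb (by simp [bigs]) hx hy h
    rcases case43 I hy with ⟨r, -⟩ | ⟨r, -⟩ <;> rw [r] at this <;> norm_num at this
  obtain ⟨k, b₁, b₂, b₃, b₄, b₅, e, hc, hn, hp, he, hd, hm, -⟩ := opts I hb hx
  rw [hc] at hp hd hm h23 h31 h43 hn ⊢
  obtain ⟨r1, r2⟩ := key37 k b₁ b₂ b₃ b₄ b₅ e hp h23 h31 h43 he hd hm
  exact ⟨r1, by rw [hn, r1, r2]⟩

theorem case29 {x : G} (hx : orderOf x = 29) : (Nat.card (cz x) = 29 ∧ Nat.card (nz x) = 29 * 28) ∨
    (Nat.card (cz x) = 1247 ∧ Nat.card (nz x) = 1247 * 2) := by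
  have hb : 29 ∈ bigs := by simp [bigs]
  have no : ∀ a, a = 23 ∨ a = 31 → ¬ a ∣ Nat.card (cz x) := fun a ha h => by
    obtain ⟨y, hy, hcy⟩ := exists_commute I (by rcases ha with rfl | rfl <;> norm_num) h
    exact not_pair I ha (Or.inl rfl) hy hx hcy.symm
  have h23 := no 23 (Or.inl rfl)
  have h31 := no 31 (Or.inr rfl)
  have h37 : ¬ 37 ∣ Nat.card (cz x) := fun h => by
    obtain ⟨y, hy⟩ := exists_elem I (p := 37) (by simp [bigs])
    have := symm_dvd I hb (by simp [bigs]) hx hy h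
    rw [(cz37 I hy).1] at this
    norm_num at this
  obtain ⟨k, b₁, b₂, b₃, b₄, b₅, e, hc, hn, hp, he, hd, hm, -⟩ := opts I hb hx
  rw [hc] at hp hd hm h23 h31 h37 hn ⊢
  rcases key29 k b₁ b₂ b₃ b₄ b₅ e hp h23 h31 h37 he hd hm with ⟨r1, r2⟩ | ⟨r1, r2⟩
  · exact Or.inl ⟨r1, by rw [hn, r1, r2]⟩
  · exact Or.inr ⟨r1, by rw [hn, r1, r2]⟩

theorem cz43 {x : G} (hx : orderOf x = 43) : Nat.card (cz x) = 43 ∧ Nat.card (nz x) = 43 * 14 := by
  rcases case43 I hx with h | ⟨h, hn⟩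
  · exact h
  exfalso
  obtain ⟨y, hy, hc⟩ := exists_commute I (q := 29) (by norm_num) (h.symm ▸ (by norm_num : 29 ∣ 1247))
  have h2 := hx ▸ cz_dvd_of_commute I hc.symm
  rcases case29 I hy with ⟨r, -⟩ | ⟨r, rn⟩
  · rw [r] at h2; norm_num at h2
  set K := zpowers x ⊔ zpowers y
  have hKx : K ≤ cz x :=
    sup_le (zpowers_le.2 (mem_cz.2 (Commute.refl x))) (zpowers_le.2 (mem_cz.2 hc))
  have hKy : K ≤ cz y :=
    sup_le (zpowers_le.2 (mem_cz.2 hc.symm)) (zpowers_le.2 (mem_cz.2 (Commute.refl y)))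
  have d1 : 43 ∣ Nat.card K := hx ▸ Nat.card_zpowers x ▸ card_dvd_of_le le_sup_left
  have d2 : 29 ∣ Nat.card K := hy ▸ Nat.card_zpowers y ▸ card_dvd_of_le le_sup_right
  have d3 : 1247 ∣ Nat.card K := by
    simpa using Nat.Coprime.mul_dvd_of_dvd_of_dvd (by norm_num : Nat.Coprime 43 29) d1 d2
  have e1 : K = cz x := eq_of_le_of_card_ge hKx (h ▸ Nat.le_of_dvd Nat.card_pos d3)
  have e2 : K = cz y := eq_of_le_of_card_ge hKy (r ▸ Nat.le_of_dvd Nat.card_pos d3)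
  have hle : nz x ≤ nz y := by
    intro g hg
    have hgy : g * y * g⁻¹ ∈ cz x := by
      rw [← cz_zpowers, mem_centralizer_iff]
      intro w hw
      have hw' : g⁻¹ * w * g ∈ zpowers x := by simpa using (mem_normalizer_iff.1 (inv_mem hg) w).1 hw
      obtain ⟨i, hi⟩ := hw'
      have hcw : Commute (g⁻¹ * w * g) y := hi ▸ hc.zpow_left i
      calc w * (g * y * g⁻¹) = g * ((g⁻¹ * w * g) * y) * g⁻¹ := by group
        _ = g * (y * (g⁻¹ * w * g)) * g⁻¹ := by rw [hcw.eq]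
        _ = g * y * g⁻¹ * w := by group
    rw [← e1, e2] at hgy
    haveI : Fact (Nat.Prime 29) := ⟨by norm_num⟩
    have hy' : orderOf (g * y * g⁻¹) = 29 := by
      rw [← MulAut.conj_apply g y]; exact ((MulAut.conj g).orderOf_eq y).trans hy
    set T := zpowers y
    set T' := zpowers (g * y * g⁻¹)
    have hT : IsPGroup 29 T := IsPGroup.of_card (n := 1) (by rw [Nat.card_zpowers, hy, pow_one])
    have hT' : IsPGroup 29 T' := IsPGroup.of_card (n := 1) (by rw [Nat.card_zpowers, hy', pow_one])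
    have hsup : IsPGroup 29 (T' ⊔ T : Subgroup G) :=
      hT'.to_sup_of_normal_right' hT (zpowers_le.2 (cz_le_nz y hgy))
    obtain ⟨n, hn'⟩ := hsup.exists_card_eq
    have hn1 : n ≤ 1 := by
      by_contra hn2
      refine (big_dvd (p := 29) (by simp [bigs])).2 ?_
      rw [← I.card]
      exact (pow_dvd_pow 29 (by omega)).trans (hn' ▸ card_subgroup_dvd_card _)
    have eT : T = T' ⊔ T := eq_of_le_of_card_ge le_sup_right (by
      rw [hn', Nat.card_zpowers, hy]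
      exact (Nat.pow_le_pow_right (by norm_num) hn1).trans (by norm_num))
    refine mem_norm fun z hz => ?_
    obtain ⟨i, rfl⟩ := hz
    rw [← conj_zpow]
    have hm : g * y * g⁻¹ ∈ T := by rw [eT]; exact mem_sup_left (mem_zpowers _)
    exact zpow_mem hm i
  have := card_dvd_of_le hle
  rw [hn, rn] at this
  norm_num at this

theorem cz29 {x : G} (hx : orderOf x = 29) : Nat.card (cz x) = 29 ∧ Nat.card (nz x) = 29 * 28 := by
  rcases case29 I hx with h | ⟨h, -⟩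
  · exact h
  exfalso
  obtain ⟨y, hy, hc⟩ := exists_commute I (q := 43) (by norm_num) (h.symm ▸ (by norm_num : 43 ∣ 1247))
  have h2 := hx ▸ cz_dvd_of_commute I hc.symm
  rw [(cz43 I hy).1] at h2
  norm_num at h2

theorem sylow_clause {p m : ℕ} (hp : p ∈ bigs)
    (h : ∀ x : G, orderOf x = p → Nat.card (cz x) = p ∧ Nat.card (nz x) = p * m) (U : Sylow p G) :
    centralizer ((U : Subgroup G) : Set G) = (U : Subgroup G) ∧
      Nat.card ↥(normalizer ((U : Subgroup G) : Set G)) = p * m := by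
  haveI := Fact.mk (big_prime hp)
  have hU : Nat.card U = p := by rw [U.card_eq_multiplicity, fac I hp, pow_one]
  obtain ⟨z, hz⟩ := exists_prime_orderOf_dvd_card' (G := U) p (by rw [hU])
  have hz' : orderOf (z : G) = p := by rw [Subgroup.orderOf_coe]; exact hz
  have hUz : zpowers (z : G) = (U : Subgroup G) :=
    eq_of_le_of_card_ge (zpowers_le.2 z.2) (by rw [Nat.card_zpowers, hz', hU])
  rw [← hUz, cz_zpowers]
  refine ⟨(eq_of_le_of_card_ge (zpowers_le.2 (mem_cz.2 (Commute.refl _))) ?_).symm, (h _ hz').2⟩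
  rw [(h _ hz').1, Nat.card_zpowers, hz']

/-- the five clauses -/
theorem normalisers :
    (∀ U : Sylow 23 G, centralizer ((U : Subgroup G) : Set G) = (U : Subgroup G) ∧
      Nat.card ↥(normalizer ((U : Subgroup G) : Set G)) = 23 * 22) ∧
    (∀ U : Sylow 29 G, centralizer ((U : Subgroup G) : Set G) = (U : Subgroup G) ∧
      Nat.card ↥(normalizer ((U : Subgroup G) : Set G)) = 29 * 28) ∧
    (∀ U : Sylow 31 G, centralizer ((U : Subgroup G) : Set G) = (U : Subgroup G) ∧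
      Nat.card ↥(normalizer ((U : Subgroup G) : Set G)) = 31 * 10) ∧
    (∀ U : Sylow 37 G, centralizer ((U : Subgroup G) : Set G) = (U : Subgroup G) ∧
      Nat.card ↥(normalizer ((U : Subgroup G) : Set G)) = 37 * 12) ∧
    (∀ U : Sylow 43 G, centralizer ((U : Subgroup G) : Set G) = (U : Subgroup G) ∧
      Nat.card ↥(normalizer ((U : Subgroup G) : Set G)) = 43 * 14) :=
  ⟨sylow_clause I (by simp [bigs]) fun _ => cz23 I, sylow_clause I (by simp [bigs]) fun _ => cz29 I,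
    sylow_clause I (by simp [bigs]) fun _ => cz31 I, sylow_clause I (by simp [bigs]) fun _ => cz37 I,
    sylow_clause I (by simp [bigs]) fun _ => cz43 I⟩

end H47.J4Large
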