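import Mathlib
import Cfsg.Agent.H47.J4Large.Arith

/-!
The input of the arithmetic part, read off from a matrix model of the group.
-/

set_option autoImplicit false

namespace H47.J4Large

open Subgroup

variable {G J M : Type*} [Group G] [Finite G] [Group J] [Group M]

omit [Finite G] in
theorem order_of_model {e : G ≃* J} {f : J →* M} (hf : Function.Injective f) {p : ℕ} (hp : p.Prime)
    {u : J} (h1 : f u ≠ 1) (h2 : f u ^ p = 1) : orderOf (e.symm u) = p := by
  haveI := Fact.mk hp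
  rw [e.symm.orderOf_eq, ← orderOf_injective f hf u]
  exact orderOf_eq_prime h2 h1

/-- the input from a model: witnesses are found in `J`, read through an injective `f` -/
theorem input_of_model (hcard : Nat.card G = 86775571046077562880)
    (hsmall : ∀ u w : G, (orderOf u = 23 ∨ orderOf u = 29 ∨ orderOf u = 31 ∨ orderOf u = 37 ∨ orderOf u = 43) →
      Commute u w → ∀ q : ℕ, (q = 2 ∨ q = 3 ∨ q = 5 ∨ q = 7) → ¬ q ∣ orderOf w)
    (e : G ≃* J) (f : J →* M) (hf : Function.Injective f)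
    (n23 : ∃ u g : J, f u ≠ 1 ∧ f u ^ 23 = 1 ∧ f (g * u * g⁻¹) = f (u ^ 2))
    (i31 : ∃ u s : J, f u ≠ 1 ∧ f u ^ 31 = 1 ∧ f (s * u * s⁻¹) = (f u)⁻¹)
    (ap : ∀ a b : ℕ, a = 23 ∨ a = 31 → b = 29 ∨ b = 43 → ∃ u v : J, f u ≠ 1 ∧ f u ^ a = 1 ∧
      f v ≠ 1 ∧ f v ^ b = 1 ∧ ∀ h : J, ¬ Commute (f u) (f (h * v * h⁻¹))) :
    Input G where
  card := hcard
  small q hq p hp x y hx hy hc := by
    refine hsmall y x ?_ hc.symm q hq (hx ▸ dvd_rfl)
    simp only [bigs, List.mem_cons, List.not_mem_nil, or_false] at hp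
    rw [hy]; exact hp
  norm23 := by
    obtain ⟨u, g, h1, h2, h3⟩ := n23
    refine ⟨e.symm u, e.symm g, order_of_model hf (by norm_num) h1 h2, ?_⟩
    rw [← map_inv, ← map_mul, ← map_mul, ← map_pow]
    exact congrArg e.symm (hf h3)
  inv31 := by
    obtain ⟨u, s, h1, h2, h3⟩ := i31
    refine ⟨e.symm u, e.symm s, order_of_model hf (by norm_num) h1 h2, ?_⟩
    rw [← map_inv, ← map_inv, ← map_mul, ← map_mul]
    exact congrArg e.symm (hf (h3.trans (map_inv f u).symm))
  apart a b ha hb := by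
    obtain ⟨u, v, h1, h2, h3, h4, h5⟩ := ap a b ha hb
    have ha' : a.Prime := by rcases ha with rfl | rfl <;> norm_num
    have hb' : b.Prime := by rcases hb with rfl | rfl <;> norm_num
    refine ⟨e.symm u, e.symm v, order_of_model hf ha' h1 h2, order_of_model hf hb' h3 h4, fun h hc => h5 (e h) ?_⟩
    have := (hc.map e.toMonoidHom).map f
    simpa using this

end H47.J4Large
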