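import Mathlib
import Cfsg.Agent.H96.J4Real
import Cfsg.Agent.H47.J4Large.Transfer

/-!
The normalisers of the large Sylow subgroups of a simple group isomorphic to the presented fourth
Janko group, from witnesses in the 112 dimensional model.
-/

set_option autoImplicit false

namespace H47.J4Large

open Subgroup H96.J4Real

theorem five_of_witnesses {G : Type*} [Group G] [Finite G] [IsSimpleGroup G]
    (hcard : Nat.card G = 86775571046077562880)
    (hsmall : ∀ u w : G, (orderOf u = 23 ∨ orderOf u = 29 ∨ orderOf u = 31 ∨ orderOf u = 37 ∨ orderOf u = 43) →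
      Commute u w → ∀ q : ℕ, (q = 2 ∨ q = 3 ∨ q = 5 ∨ q = 7) → ¬ q ∣ orderOf w)
    (e : G ≃* Cfsg.Spor.J4)
    (n23 : ∃ u g : Cfsg.Spor.J4, rho u ≠ 1 ∧ rho u ^ 23 = 1 ∧ rho (g * u * g⁻¹) = rho (u ^ 2))
    (i31 : ∃ u s : Cfsg.Spor.J4, rho u ≠ 1 ∧ rho u ^ 31 = 1 ∧ rho (s * u * s⁻¹) = (rho u)⁻¹)
    (ap : ∀ a b : ℕ, a = 23 ∨ a = 31 → b = 29 ∨ b = 43 → ∃ u v : Cfsg.Spor.J4, rho u ≠ 1 ∧
      rho u ^ a = 1 ∧ rho v ≠ 1 ∧ rho v ^ b = 1 ∧ ∀ h : Cfsg.Spor.J4, ¬ Commute (rho u) (rho (h * v * h⁻¹))) :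
    (∀ U : Sylow 23 G, centralizer ((U : Subgroup G) : Set G) = (U : Subgroup G) ∧
      Nat.card ↥(normalizer ((U : Subgroup G) : Set G)) = 23 * 22) ∧
    (∀ U : Sylow 29 G, centralizer ((U : Subgroup G) : Set G) = (U : Subgroup G) ∧
      Nat.card ↥(normalizer ((U : Subgroup G) : Set G)) = 29 * 28) ∧
    (∀ U : Sylow 31 G, centralizer ((U : Subgroup G) : Set G) = (U : Subgroup G) ∧
      Nat.card ↥(normalizer ((U : Subgroup G) : Set G)) = 31 * 10) ∧
    (∀ U : Sylow 37 G, centralizer ((U : Subgroup G) : Set G) = (U : Subgroup G) ∧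
      Nat.card ↥(normalizer ((U : Subgroup G) : Set G)) = 37 * 12) ∧
    (∀ U : Sylow 43 G, centralizer ((U : Subgroup G) : Set G) = (U : Subgroup G) ∧
      Nat.card ↥(normalizer ((U : Subgroup G) : Set G)) = 43 * 14) := by
  haveI : IsSimpleGroup Cfsg.Spor.J4 := e.symm.isSimpleGroup
  exact normalisers (input_of_model hcard hsmall e rho rho_injective n23 i31 ap)

end H47.J4Large
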