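import Mathlib
import Cfsg.Agent.H97.J4Big.Cert
import Cfsg.Agent.H47.J4Large.Wrap

/-!
The normalisers of the large Sylow subgroups of a simple group isomorphic to the presented fourth
Janko group.
-/

set_option autoImplicit false

namespace H47.J4Large

open Subgroup

theorem five {G : Type*} [Group G] [Finite G] [IsSimpleGroup G]
    (hcard : Nat.card G = 86775571046077562880)
    (hsmall : ∀ u w : G, (orderOf u = 23 ∨ orderOf u = 29 ∨ orderOf u = 31 ∨ orderOf u = 37 ∨ orderOf u = 43) →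
      Commute u w → ∀ q : ℕ, (q = 2 ∨ q = 3 ∨ q = 5 ∨ q = 7) → ¬ q ∣ orderOf w)
    (e : G ≃* Cfsg.Spor.J4) :
    (∀ U : Sylow 23 G, centralizer ((U : Subgroup G) : Set G) = (U : Subgroup G) ∧
      Nat.card ↥(normalizer ((U : Subgroup G) : Set G)) = 23 * 22) ∧
    (∀ U : Sylow 29 G, centralizer ((U : Subgroup G) : Set G) = (U : Subgroup G) ∧
      Nat.card ↥(normalizer ((U : Subgroup G) : Set G)) = 29 * 28) ∧
    (∀ U : Sylow 31 G, centralizer ((U : Subgroup G) : Set G) = (U : Subgroup G) ∧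
      Nat.card ↥(normalizer ((U : Subgroup G) : Set G)) = 31 * 10) ∧
    (∀ U : Sylow 37 G, centralizer ((U : Subgroup G) : Set G) = (U : Subgroup G) ∧
      Nat.card ↥(normalizer ((U : Subgroup G) : Set G)) = 37 * 12) ∧
    (∀ U : Sylow 43 G, centralizer ((U : Subgroup G) : Set G) = (U : Subgroup G) ∧
      Nat.card ↥(normalizer ((U : Subgroup G) : Set G)) = 43 * 14) := by
  refine five_of_witnesses hcard hsmall e H97.J4Big.norm23 ?_ H97.J4Big.exists_apart
  obtain ⟨u, s, h1, h2, h3⟩ := H97.J4Big.inv31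
  exact ⟨u, s, h1, h2, h3.trans (map_inv _ u)⟩

end H47.J4Large
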